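import Cfsg.Agent.H964.Rg.Slo
import Cfsg.Agent.H449.Reg.Types
import Cfsg.Agent.H522.Rg.PolF

/-!
# S3691, task C: plus type, `r_{2m-2}`, `r_{2m-4}` in the same factor (helper486)
-/

set_option autoImplicit false
set_option linter.unusedSectionVars false

namespace Cfsg.Agent.H486.Rg

open Module QuadraticMap Cfsg Cfsg.Geo Cfsg.Agent.LieClassical.OrthCore Cfsg.Agent.LieClassical.OrthTrans
  Cfsg.Agent.H454.Reg Cfsg.Agent.H884.El Cfsg.Agent.H955 Cfsg.Agent.H954.TSing Cfsg.Agent.H193.Dg Cfsg.Agent.H851.Dg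
  Cfsg.Agent.H449.Reg Cfsg.Agent.H964.Rg
open Cfsg.Agent.H951 (fx cm Inv)
open Cfsg.Agent.H278.Cov (Red Ext Num)
open scoped MatrixGroups Matrix

universe u v

section abs

variable {F : Type u} [Field F] [Fintype F] {V : Type v} [AddCommGroup V] [Module F V] [FiniteDimensional F V]
  {Q : QuadraticForm F V} {H : Subgroup (V ≃ₗ[F] V)}

/-- no extension fields for the sections of dimension `2 m - 2`, the prime `r_{2m-4}` -/
theorem no_ext4 (hQ : Nondeg Q) (hH : ∀ h ∈ H, ∀ u v, polar Q (h u) (h v) = polar Q u v)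
    (hirr : ¬ ∃ W : Submodule F V, W ≠ ⊥ ∧ W ≠ ⊤ ∧ ∀ h ∈ H, ∀ w ∈ W, h w ∈ W)
    {m r2 r4 s : ℕ} (hm : 5 ≤ m) (hn : finrank F V = 2 * m - 2) (hr2 : PP (Nat.card F) (2 * m - 2) r2) (h2 : r2 ∣ Nat.card H)
    (hr4 : PP (Nat.card F) (2 * m - 4) r4) (h4 : r4 ∣ Nat.card H)
    (hs : s.Prime) (hsd : s ∣ 2 * m - 2) : ¬ AExt s H := by
  intro hA
  have hV : Finite V := Module.finite_of_finite F
  have hfin : Finite (V ≃ₗ[F] V) := Finite.of_injective (fun g : V ≃ₗ[F] V => (g : V → V)) DFunLike.coe_injective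
  have := Fact.mk hr4.prime
  obtain ⟨x, hx⟩ := exists_prime_orderOf_dvd_card' r4 h4
  have hxr : (x : V ≃ₗ[F] V) ^ r4 = 1 := by
    rw [← Subgroup.coe_pow, ← hx, pow_orderOf_eq_one]; rfl
  have hx1 : (x : V ≃ₗ[F] V) ≠ 1 := by
    intro h0
    have hx0 : x = 1 := Subtype.ext h0
    rw [hx0, orderOf_one] at hx
    exact hr4.prime.one_lt.ne hx
  have hfx := H522.Rg.fx_even hr4 (by omega) (by omega) hxr hx1
  have hlt := hr4.lt (by omega)
  have hs2 : s = 2 := by
    by_cases hrs : r4 = s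
    · -- `s` odd and `s ∣ m - 1 < r4`
      exfalso
      rw [← hrs] at hsd
      have h5 : r4 ∣ m - 1 := by
        have h6 : 2 * m - 2 = 2 * (m - 1) := by omega
        rw [h6] at hsd
        exact (Nat.Coprime.dvd_mul_left ((Nat.coprime_primes hr4.prime Nat.prime_two).2 (by omega))).1 hsd
      have := Nat.le_of_dvd (by omega) h5
      omega
    · have h5 := hA.dvd_fx x.2 hr4.prime hxr hrs
      have h6 : finrank F (fx ((x : V ≃ₗ[F] V) : Module.End F V)) = 2 := by omega
      rw [h6] at h5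
      exact (Nat.prime_dvd_prime_iff_eq hs Nat.prime_two).1 h5
  subst hs2
  refine H522.Rg.sp_not_two hQ hH hr2 hr4 (by omega) (by omega) ?_ ⟨m - 1, by omega⟩ ⟨m - 2, by omega⟩ (by omega) (by omega)
    ⟨m - 2, by omega⟩ h2 h4 hA
  intro W hW
  by_contra hcon
  push Not at hcon
  exact hirr ⟨W, hcon.1, hcon.2, hW⟩

end abs

variable {ι : Type} [Fintype ι] [DecidableEq ι] {F : Type v} [Field F] [Fintype F] {Q : QuadraticForm F (ι → F)}
variable {G : Type u} [Group G] [Finite G] {T : Subgroup G} [T.Normal] {hG : Good Q} {eT : T ≃* POmega F (⇑Q)}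
  {hI : Ind (eP hG eT)} {X Y : Subgroup G} {p f m N : ℕ}

/-- (C) PLUS, `r_{2m-2}, r_{2m-4} ∈ X` -/
theorem plus_one (h : Cx hI X Y p f m (2 * m - 2)) (hm : 5 ≤ m) (hP : IsPlus Q)
    {r2 r4 : ℕ} (hr2 : PP (Nat.card F) (2 * m - 2) r2) (hr4 : PP (Nat.card F) (2 * m - 4) r4)
    (hX2 : r2 ∣ Nat.card (X.subgroupOf T)) (hX4 : r4 ∣ Nat.card (X.subgroupOf T))
    (hLX : Red (preG eT X) ∨ Ex2 (preG eT X))
    {d : ℕ} (hd : d ∣ 2 * m - 2) (h8 : SLO Q (preG eT X) (2 * m - 2) d)
    (h9 : (2 : F) ≠ 0 → SLO Q (preG eT X) (2 * m - 1) 1) (h10 : (2 : F) = 0 → SLS Q (preG eT X) (2 * m - 2) d) :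
    (∃ v, ResV hI X v) ∨ ∃ P, ResP hI X P := by
  have hc2 : r2 ∣ Nat.card (preG eT X) := hX2.trans card_dvd_preG
  have hc4 : r4 ∣ Nat.card (preG eT X) := hX4.trans card_dvd_preG
  obtain ⟨x, hx, hiso, hxr, hx1⟩ := exists_elt (Q := Q) (preG_le (eT := eT) (X := X)) hr2 (by omega) hc2
  have hfin := h.finrank_V
  have hdim := h.dim
  have hev : Even (2 * m - 2) := ⟨m - 1, by omega⟩
  obtain ⟨hcm, hcmP⟩ := hiso.even_case hG.nondeg (lin_ne_one hx1) hr2 hev (by omega)
  have hadd := hiso.finrank_add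
  have hfx : finrank F ↥(fx (lin x)) = 2 := by omega
  have hfxP : ¬ IsPlus (res Q (fx (lin x))) := by
    intro h0
    have h5 := (hiso.isPlus_fx hG.nondeg (by rw [hfin]; exact even_two_mul m) (by rw [hcm]; exact hev)).1 hP
    exact hcmP (h5.2 h0)
  have haniso : ∀ w ∈ fx (lin x), Q w = 0 → w = 0 := fun w hw h0 => aniso_of_not_plus hfx hfxP hw h0
  have hcompl := H951.isCompl_fx_cm hiso.ne0 hiso.pow
  -- reducible
  have hred : Red (preG eT X) := by
    by_contra hnr
    obtain ⟨K, hK, hHK⟩ := hLX.resolve_left hnr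
    have hirr : ActsIrreducibly (matrixSet (preG eT X)) := by
      intro W hW
      by_contra hcon
      push Not at hcon
      refine hnr ⟨W, hcon.1, hcon.2, fun g hg => H884.OmegaGL.mem_subspaceStabilizer.2 fun w hw => ?_⟩
      have h1 := hW _ ⟨g, hg, rfl⟩ ⟨w, hw, rfl⟩
      rwa [Matrix.toLin'_apply] at h1
    have hB : (polarBilin Q).Nondegenerate := by
      refine ⟨fun u hu => hG.nondeg u hu, fun u hu => hG.nondeg u fun w => ?_⟩
      have := hu w
      rw [polar_comm]
      exact this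
    exact no_field2_gen hirr hB (fun g hg u w => polar_mulVec preG_le hg u w) hr2 hr4 hev ⟨m - 2, by omega⟩ (by omega)
      (by omega) (by omega) (by omega) ⟨m - 2, by omega⟩ hc2 hc4 hK hHK
  obtain ⟨S, hM, hSle⟩ := exists_mx hI hr2 (by omega) (by omega) hx hxr hx1 hred
  have hS1 : finrank F S ≠ 0 := fun h0 => hM.ne (Submodule.finrank_eq_zero.1 h0)
  have hS2 := Submodule.finrank_mono hSle
  by_cases hS : finrank F S = 2
  · -- the plane
    right
    have hSP : S = fx (lin x) := Submodule.eq_of_le_of_finrank_eq hSle (by omega)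
    subst hSP
    obtain ⟨hsec, hU⟩ := sec_plane hG.nondeg preG_le hiso hM.le
    have hirr := hsec.irr hG.nondeg hr2 (by omega) (by omega) hx hxr hx1 hU hM.max (fun u hu hu2 => by
      have h1 : u ∈ fx (lin x) ⊓ cm (lin x) := ⟨hu2, hu⟩
      rw [hcompl.inf_eq_bot] at h1
      exact (Submodule.mem_bot F).1 h1)
    have hE : E (res Q (cm (lin x))) ≤ secG hsec := by
      rcases h8 (cm (lin x)) ⊥ hsec hcm (by rw [finrank_bot]; omega) (fun a ha => by
        rw [(Submodule.mem_bot F).1 ha, QuadraticMap.map_zero]) with h1 | ⟨s, hs, hsd, h1⟩ | h1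
      · exact absurd h1 hirr
      · exact absurd h1 (no_ext4 hsec.nd hsec.polar_eq hirr hm hcm hr2
          (hsec.dvd hr2 (by omega) (by omega) (by rw [finrank_bot]; omega) hc2) hr4
          (hsec.dvd hr4 (by omega) (by omega) (by rw [finrank_bot]; omega) hc4) hs (hsd.trans hd))
      · exact h1
    exact ⟨_, resP_of hfx haniso (nondeg_fx hG.nondeg hiso.iso hiso.ne0 hiso.pow) hM.fix (by omega)
      (by rw [perp_fx hG.nondeg hiso.iso hiso.ne0 hiso.pow]) hsec hE⟩
  · -- a point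
    left
    have hS1' : finrank F S = 1 := by omega
    obtain ⟨v, hv, hv0⟩ := Submodule.exists_mem_ne_zero_of_ne_bot hM.ne
    have hSv : S = F ∙ v := (Submodule.eq_of_le_of_finrank_eq ((Submodule.span_singleton_le_iff_mem v S).2 hv)
      (by rw [hS1', finrank_span_singleton hv0])).symm
    subst hSv
    have hvx : v ∈ fx (lin x) := hSle hv
    have hQv : Q v ≠ 0 := fun h0 => hv0 (haniso v hvx h0)
    refine ⟨v, ?_⟩
    by_cases h2 : (2 : F) = 0
    · have hvv : polar Q v v = 0 := by rw [polar_self', h2, zero_mul]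
      obtain ⟨hsec, hU⟩ := sec_line hG.nondeg preG_le hiso hfx hv0 hvv hvx hM.le
      have hR : finrank F (F ∙ v) = 1 := finrank_span_singleton hv0
      have hirr := hsec.irr hG.nondeg hr2 (by omega) (by omega) hx hxr hx1 hU hM.max (fun u hu hu2 => by
        have h1 : u ∈ fx (lin x) ⊓ cm (lin x) := ⟨hSle hu2, hu⟩
        rw [hcompl.inf_eq_bot] at h1
        exact (Submodule.mem_bot F).1 h1)
      refine resV_even h2 hQv hM.fix (by omega) hiso hU hvx hsec ?_
      refine sp_of_sls h2 hQv hM (by omega) hU hsec (by omega) hcm (h10 h2) hirr fun s hs hsd => ?_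
      exact no_ext4 hsec.nd hsec.polar_eq hirr hm hcm hr2
          (hsec.dvd hr2 (by omega) (by omega) (by omega) hc2) hr4
          (hsec.dvd hr4 (by omega) (by omega) (by omega) hc4) hs (hsd.trans hd)
    · obtain ⟨hsec, hU⟩ := sec_perp hG.nondeg preG_le h2 hQv hM.le
      have hUd : finrank F (perp Q (F ∙ v)) = 2 * m - 1 := by
        have h5 := finrank_perp hG.nondeg (F ∙ v)
        rw [finrank_span_singleton hv0, hfin] at h5
        omega
      have hirr := hsec.irr hG.nondeg hr2 (by omega) (by omega) hx hxr hx1 hU hM.max (fun u hu hu2 => by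
        obtain ⟨c, rfl⟩ := Submodule.mem_span_singleton.1 hu2
        have h1 := hu v hv
        rw [polar_smul_right, polar_self', smul_eq_mul] at h1
        rcases mul_eq_zero.1 h1 with h3 | h3
        · rw [h3, zero_smul]
        · rcases mul_eq_zero.1 h3 with h4 | h4
          · exact absurd h4 h2
          · exact absurd h4 hQv)
      refine resV_odd h2 hQv hM.fix (by omega) hsec ?_
      rcases h9 h2 (perp Q (F ∙ v)) ⊥ hsec hUd (by rw [finrank_bot]; omega) (fun a ha => by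
        rw [(Submodule.mem_bot F).1 ha, QuadraticMap.map_zero]) with h1 | ⟨s, hs, hsd, h1⟩ | h1
      · exact absurd h1 hirr
      · exact absurd (Nat.dvd_one.1 hsd) hs.one_lt.ne'
      · exact h1

end Cfsg.Agent.H486.Rg
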